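import Mathlib
import Cfsg.Agent.Lib.helper20.ClassGraph

set_option autoImplicit false

namespace Cfsg.Agent.Lib.helper16.ClassSetup

open Cfsg.Agent.Lib.helper20 Cfsg.Agent.Lib.helper20.ClassGraph

theorem setupA {G : Type*} [Group G] [Finite G] (m : ℕ)
    (hmax : ∀ x : G, cs x ≤ m) (b₀ : G) (hb₀ : cs b₀ = m) :
    ∃ N K : Subgroup G, N.Normal ∧ K.Normal ∧ K ≤ N ∧ Subgroup.center G ≤ N ∧
      (∀ x ∈ N, ∀ y ∈ N, x * y = y * x) ∧
      (∀ a : G, Nat.Coprime (cs a) m → a ∈ N) ∧
      Nat.card K ∣ m ∧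
      (∀ n ∈ N, ∃ z ∈ Subgroup.center G, ∃ k ∈ K, n = z * k) ∧
      (∀ b : G, cs b = m → ∀ k ∈ K, k * b ∈ clset b) ∧
      (∀ a : G, Nat.Coprime (cs a) m → ∀ g : G, a⁻¹ * (g * a * g⁻¹) ∈ K) := by
  classical
  obtain ⟨W, hW⟩ : ∃ W : Set G, W = {a : G | Nat.Coprime (cs a) m} := ⟨_, rfl⟩
  have hWmem : ∀ a : G, a ∈ W ↔ Nat.Coprime (cs a) m := by
    intro a
    rw [hW]
    exact Iff.rfl
  have hWconj : ∀ a ∈ W, ∀ g : G, g * a * g⁻¹ ∈ W := by
    intro a ha g
    rw [hWmem] at ha ⊢
    rw [cs_conj]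
    exact ha
  have hZW : ∀ z ∈ Subgroup.center G, z ∈ W := by
    intro z hz
    rw [hWmem, (cs_eq_one_iff z).mpr hz]
    exact Nat.coprime_one_left m
  obtain ⟨N, hN⟩ : ∃ N : Subgroup G, N = Subgroup.closure W := ⟨_, rfl⟩
  have hNn : N.Normal := by
    rw [hN]
    exact closure_normal_of_conj W hWconj
  have hWN : ∀ a ∈ W, a ∈ N := by
    intro a ha
    rw [hN]
    exact Subgroup.subset_closure ha
  obtain ⟨D, hD⟩ : ∃ D : Set G, D = {x : G | ∃ a ∈ W, ∃ g : G, x = a⁻¹ * (g * a * g⁻¹)} :=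
    ⟨_, rfl⟩
  have hDmem : ∀ x : G, x ∈ D ↔ ∃ a ∈ W, ∃ g : G, x = a⁻¹ * (g * a * g⁻¹) := by
    intro x
    rw [hD]
    exact Iff.rfl
  obtain ⟨K, hK⟩ : ∃ K : Subgroup G, K = Subgroup.closure D := ⟨_, rfl⟩
  have hDK : ∀ a ∈ W, ∀ g : G, a⁻¹ * (g * a * g⁻¹) ∈ K := by
    intro a ha g
    rw [hK]
    apply Subgroup.subset_closure
    exact (hDmem _).mpr ⟨a, ha, g, rfl⟩
  have hKn : K.Normal := by
    rw [hK]
    apply closure_normal_of_conj
    intro x hx h
    obtain ⟨a, ha, g, rfl⟩ := (hDmem x).mp hx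
    refine (hDmem _).mpr ⟨h * a * h⁻¹, hWconj a ha h, h * g * h⁻¹, ?_⟩
    group
  have hKN : K ≤ N := by
    rw [hK, Subgroup.closure_le]
    intro x hx
    obtain ⟨a, ha, g, rfl⟩ := (hDmem x).mp hx
    exact N.mul_mem (N.inv_mem (hWN a ha)) (hWN _ (hWconj a ha g))
  have hZN : Subgroup.center G ≤ N := fun z hz => hWN z (hZW z hz)
  have hgoodmax : ∀ b : G, cs b = m → ∀ a ∈ W, cs (a * b) = cs b := by
    intro b hb a ha
    have hc : Nat.Coprime (cs a) (cs b) := by
      rw [hb]
      exact (hWmem a).mp ha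
    have h1 := cs_le_mul_right a b hc
    have h2 := hmax (a * b)
    rw [← hb] at h2
    exact le_antisymm h2 h1
  have hgoodK : ∀ b : G, cs b = m → ∀ k ∈ K, k * b ∈ clset b := by
    intro b hb k hk
    rw [hK, hD] at hk
    exact K_stab W (fun b => cs b = m)
      (fun b hb a ha => ⟨by rw [hb]; exact (hWmem a).mp ha, hgoodmax b hb a ha⟩)
      (by
        intro b hb g
        show cs (g * b * g⁻¹) = m
        rw [cs_conj]
        exact hb)
      k hk b hb
  have hKcard : Nat.card K ∣ m := by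
    have h := card_dvd_of_mul_stable K (clset b₀) (by
      intro t ht x hx
      obtain ⟨g, rfl⟩ := hx
      have hg : cs (g * b₀ * g⁻¹) = m := by rw [cs_conj]; exact hb₀
      exact clset_trans ⟨g, rfl⟩ (hgoodK _ hg t ht))
    rw [clset_ncard, hb₀] at h
    exact h
  have hKcent : ∀ a ∈ W, K ≤ Subgroup.centralizer ({a} : Set G) := by
    intro a ha
    rw [← Subgroup.relIndex_eq_one]
    have h1 : (Subgroup.centralizer ({a} : Set G)).relIndex K ∣ Nat.card K :=
      Subgroup.relIndex_dvd_card _ _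
    haveI := hKn
    have h2 : (Subgroup.centralizer ({a} : Set G)).relIndex K ∣ cs a := relidx_dvd K _
    exact Nat.eq_one_of_dvd_coprimes ((hWmem a).mp ha) h2 (h1.trans hKcard)
  have hKcomm : ∀ a ∈ W, ∀ k ∈ K, a * k = k * a :=
    fun a ha k hk => (S4134.mcs a k).mp (hKcent a ha hk)
  have hNK : ∀ n ∈ N, ∀ k ∈ K, n * k = k * n := by
    intro n hn k hk
    have hle : N ≤ Subgroup.centralizer ({k} : Set G) := by
      rw [hN, Subgroup.closure_le]
      intro a ha
      show a ∈ Subgroup.centralizer ({k} : Set G)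
      rw [S4134.mcs]
      exact (hKcomm a ha k hk).symm
    exact ((S4134.mcs k n).mp (hle hn)).symm
  have hNcent : ∀ a ∈ W, N ≤ Subgroup.centralizer ({a} : Set G) := by
    intro a ha
    rw [← Subgroup.relIndex_eq_one]
    haveI := hNn
    have h2 : (Subgroup.centralizer ({a} : Set G)).relIndex N ∣ cs a := relidx_dvd N _
    have h1 : (Subgroup.centralizer ({a} : Set G)).relIndex N ∣ Nat.card K := by
      let ψ : ↥N →* ↥K := MonoidHom.mk'
        (fun n => ⟨a⁻¹ * ((n : G) * a * (n : G)⁻¹), hDK a ha n⟩) (by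
        intro n m
        apply Subtype.ext
        show a⁻¹ * (((n : G) * (m : G)) * a * ((n : G) * (m : G))⁻¹) =
          (a⁻¹ * ((n : G) * a * (n : G)⁻¹)) * (a⁻¹ * ((m : G) * a * (m : G)⁻¹))
        have hc := hNK (n : G)⁻¹ (N.inv_mem n.2) _ (hDK a ha (m : G))
        calc a⁻¹ * (((n : G) * (m : G)) * a * ((n : G) * (m : G))⁻¹)
            = a⁻¹ * (n : G) * a * ((a⁻¹ * ((m : G) * a * (m : G)⁻¹)) * (n : G)⁻¹) := by group
          _ = a⁻¹ * (n : G) * a * ((n : G)⁻¹ * (a⁻¹ * ((m : G) * a * (m : G)⁻¹))) := by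
              rw [hc]
          _ = (a⁻¹ * ((n : G) * a * (n : G)⁻¹)) * (a⁻¹ * ((m : G) * a * (m : G)⁻¹)) := by
              group)
      have hker : ψ.ker = (Subgroup.centralizer ({a} : Set G)).subgroupOf N := by
        ext n
        rw [MonoidHom.mem_ker, Subgroup.mem_subgroupOf, S4134.mcs]
        constructor
        · intro h
          have h1 : a⁻¹ * ((n : G) * a * (n : G)⁻¹) = 1 := congrArg Subtype.val h
          symm
          calc (n : G) * a = a * (a⁻¹ * ((n : G) * a * (n : G)⁻¹)) * (n : G) := by group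
            _ = a * 1 * (n : G) := by rw [h1]
            _ = a * (n : G) := by group
        · intro h
          apply Subtype.ext
          show a⁻¹ * ((n : G) * a * (n : G)⁻¹) = 1
          rw [← h]
          group
      have h3 : ψ.ker.index = Nat.card ψ.range := Subgroup.index_ker ψ
      have h4 : Nat.card ψ.range ∣ Nat.card K := Subgroup.card_subgroup_dvd_card ψ.range
      show ((Subgroup.centralizer ({a} : Set G)).subgroupOf N).index ∣ Nat.card K
      rw [← hker, h3]
      exact h4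
    exact Nat.eq_one_of_dvd_coprimes ((hWmem a).mp ha) h2 (h1.trans hKcard)
  have hWNcomm : ∀ a ∈ W, ∀ n ∈ N, a * n = n * a :=
    fun a ha n hn => (S4134.mcs a n).mp (hNcent a ha hn)
  have hNab : ∀ x ∈ N, ∀ y ∈ N, x * y = y * x := by
    intro x hx y hy
    have hle : N ≤ Subgroup.centralizer ({y} : Set G) := by
      rw [hN, Subgroup.closure_le]
      intro a ha
      show a ∈ Subgroup.centralizer ({y} : Set G)
      rw [S4134.mcs]
      exact (hWNcomm a ha y hy).symm
    exact ((S4134.mcs y x).mp (hle hx)).symm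
  -- N ≤ Z K
  have hZK : ∀ a ∈ W, a ∈ Subgroup.center G ⊔ K := by
    intro a ha
    have hm : a ^ Nat.card K ∈ Subgroup.center G := by
      rw [Subgroup.mem_center_iff]
      intro g
      have hκ := hDK a ha g
      have hκ1 : (a⁻¹ * (g * a * g⁻¹)) ^ Nat.card K = 1 := by
        have h := pow_card_eq_one' (G := K) (x := ⟨_, hκ⟩)
        exact congrArg Subtype.val h
      have hcomm : Commute a (a⁻¹ * (g * a * g⁻¹)) := hKcomm a ha _ hκ
      have e1 : g * a * g⁻¹ = a * (a⁻¹ * (g * a * g⁻¹)) := by group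
      have e2 : g * a ^ Nat.card K * g⁻¹ = a ^ Nat.card K := by
        rw [← conj_pow, e1, hcomm.mul_pow, hκ1, mul_one]
      calc g * a ^ Nat.card K = (g * a ^ Nat.card K * g⁻¹) * g := by group
        _ = a ^ Nat.card K * g := by rw [e2]
    have hc : a ^ cs a ∈ Subgroup.center G ⊔ K := by
      haveI : Fintype (G ⧸ Subgroup.centralizer ({a} : Set G)) := Fintype.ofFinite _
      letI : CommGroup ↥N := { (inferInstance : Group ↥N) with
        mul_comm := fun x y => Subtype.ext (hNab x x.2 y y.2) }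
      let F : G ⧸ Subgroup.centralizer ({a} : Set G) → ↥N := fun q =>
        Quotient.liftOn' q (fun g => (⟨g * a * g⁻¹, hWN _ (hWconj a ha g)⟩ : ↥N)) (by
          intro g₁ g₂ h
          rw [QuotientGroup.leftRel_apply, S4134.mcs] at h
          apply Subtype.ext
          show g₁ * a * g₁⁻¹ = g₂ * a * g₂⁻¹
          calc g₁ * a * g₁⁻¹ = g₁ * (a * (g₁⁻¹ * g₂)) * g₂⁻¹ := by group
            _ = g₁ * (g₁⁻¹ * g₂ * a) * g₂⁻¹ := by rw [h]
            _ = g₂ * a * g₂⁻¹ := by group)
      have hF : ∀ g : G, ((F (g : G ⧸ Subgroup.centralizer ({a} : Set G)) : ↥N) : G) =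
          g * a * g⁻¹ := fun g => rfl
      obtain ⟨P, hP⟩ : ∃ P : ↥N, P = ∏ q : G ⧸ Subgroup.centralizer ({a} : Set G), F q :=
        ⟨_, rfl⟩
      have hPc : (P : G) ∈ Subgroup.center G := by
        rw [Subgroup.mem_center_iff]
        intro h
        let σ : ↥N →* ↥N := MonoidHom.mk'
          (fun n => ⟨h * (n : G) * h⁻¹, hNn.conj_mem _ n.2 h⟩) (by
          intro n m
          apply Subtype.ext
          show h * ((n : G) * (m : G)) * h⁻¹ = (h * (n : G) * h⁻¹) * (h * (m : G) * h⁻¹)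
          group)
        have hσ : ∀ n : ↥N, ((σ n : ↥N) : G) = h * (n : G) * h⁻¹ := fun n => rfl
        have hstep : ∀ q : G ⧸ Subgroup.centralizer ({a} : Set G), σ (F q) = F (h • q) := by
          intro q
          obtain ⟨g, rfl⟩ := QuotientGroup.mk_surjective q
          apply Subtype.ext
          rw [hσ, hF]
          show h * (g * a * g⁻¹) * h⁻¹ = (h * g) * a * (h * g)⁻¹
          group
        have hconj : σ P = P := by
          rw [hP, map_prod]
          have h1 : ∀ q ∈ (Finset.univ : Finset (G ⧸ Subgroup.centralizer ({a} : Set G))),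
              σ (F q) = F (h • q) := fun q _ => hstep q
          rw [Finset.prod_congr rfl h1]
          exact Function.Bijective.prod_comp (MulAction.bijective h) F
        have h1 : h * (P : G) * h⁻¹ = (P : G) := by
          have h2 := congrArg Subtype.val hconj
          rw [hσ] at h2
          exact h2
        calc h * (P : G) = (h * (P : G) * h⁻¹) * h := by group
          _ = (P : G) * h := by rw [h1]
      have hPk : ∃ κ ∈ K, (P : G) = a ^ cs a * κ := by
        obtain ⟨a', ha'⟩ : ∃ a' : ↥N, a' = ⟨a, hWN a ha⟩ := ⟨_, rfl⟩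
        have ha'c : (a' : G) = a := by rw [ha']
        have hmem : ∏ q : G ⧸ Subgroup.centralizer ({a} : Set G), (a'⁻¹ * F q) ∈
            K.subgroupOf N := by
          apply Subgroup.prod_mem
          intro q _
          obtain ⟨g, rfl⟩ := QuotientGroup.mk_surjective q
          rw [Subgroup.mem_subgroupOf]
          show (a' : G)⁻¹ * ((F (g : G ⧸ Subgroup.centralizer ({a} : Set G)) : ↥N) : G) ∈ K
          rw [ha'c, hF]
          exact hDK a ha g
        have e : Fintype.card (G ⧸ Subgroup.centralizer ({a} : Set G)) = cs a :=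
          (Nat.card_eq_fintype_card).symm
        have h1 : ∏ q : G ⧸ Subgroup.centralizer ({a} : Set G), (a'⁻¹ * F q) =
            a'⁻¹ ^ cs a * P := by
          rw [Finset.prod_mul_distrib, Finset.prod_const, Finset.card_univ, e, hP]
        have h2 : P = a' ^ cs a * ∏ q : G ⧸ Subgroup.centralizer ({a} : Set G), (a'⁻¹ * F q) := by
          rw [h1, inv_pow, mul_inv_cancel_left]
        refine ⟨((∏ q : G ⧸ Subgroup.centralizer ({a} : Set G), (a'⁻¹ * F q) : ↥N) : G),
          Subgroup.mem_subgroupOf.mp hmem, ?_⟩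
        have h3 := congrArg Subtype.val h2
        have h4 : ((a' ^ cs a * ∏ q : G ⧸ Subgroup.centralizer ({a} : Set G), (a'⁻¹ * F q) : ↥N) : G)
            = (a' : G) ^ cs a *
              ((∏ q : G ⧸ Subgroup.centralizer ({a} : Set G), (a'⁻¹ * F q) : ↥N) : G) := rfl
        exact h3.trans (h4.trans (by rw [ha'c]))
      obtain ⟨κ, hκ, hPκ⟩ := hPk
      have e : a ^ cs a = (P : G) * κ⁻¹ := by
        rw [hPκ]
        group
      rw [e]
      exact Subgroup.mul_mem_sup hPc (K.inv_mem hκ)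
    haveI := hKn
    haveI : (Subgroup.center G ⊔ K).Normal := inferInstance
    have h1 : ((a : G) : G ⧸ (Subgroup.center G ⊔ K)) ^ cs a = 1 := by
      rw [← QuotientGroup.mk_pow, QuotientGroup.eq_one_iff]
      exact hc
    have h2 : ((a : G) : G ⧸ (Subgroup.center G ⊔ K)) ^ Nat.card K = 1 := by
      rw [← QuotientGroup.mk_pow, QuotientGroup.eq_one_iff]
      exact Subgroup.mem_sup_left hm
    have h3 : orderOf ((a : G) : G ⧸ (Subgroup.center G ⊔ K)) = 1 :=
      Nat.eq_one_of_dvd_coprimes ((hWmem a).mp ha)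
        (orderOf_dvd_of_pow_eq_one h1) ((orderOf_dvd_of_pow_eq_one h2).trans hKcard)
    rw [orderOf_eq_one_iff, QuotientGroup.eq_one_iff] at h3
    exact h3
  have hNZK : ∀ n ∈ N, ∃ z ∈ Subgroup.center G, ∃ k ∈ K, n = z * k := by
    intro n hn
    have hle : N ≤ Subgroup.center G ⊔ K := by
      rw [hN, Subgroup.closure_le]
      exact fun a ha => hZK a ha
    have h1 := hle hn
    haveI := hKn
    have h2 : (n : G) ∈ ((Subgroup.center G ⊔ K : Subgroup G) : Set G) := h1
    rw [Subgroup.mul_normal] at h2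
    obtain ⟨z, hz, k, hk, rfl⟩ := Set.mem_mul.mp h2
    exact ⟨z, hz, k, hk, rfl⟩
  exact ⟨N, K, hNn, hKn, hKN, hZN, hNab, fun a ha => hWN a ((hWmem a).mpr ha), hKcard, hNZK,
    hgoodK, fun a ha g => hDK a ((hWmem a).mpr ha) g⟩

end Cfsg.Agent.Lib.helper16.ClassSetup
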