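import Mathlib
import Cfsg.Agent.S0128
import Cfsg.Agent.S3771
import Cfsg.Agent.S0639

set_option autoImplicit false

namespace Cfsg.Agent.Lib.helper16.S1454X4

theorem conj_mem_closure {G : Type*} [Group G] (s : Set G) (g : G)
    (hg : ∀ x ∈ s, g * x * g⁻¹ ∈ s) :
    ∀ h ∈ Subgroup.closure s, g * h * g⁻¹ ∈ Subgroup.closure s := by
  intro h hh
  induction hh using Subgroup.closure_induction with
  | mem x hx => exact Subgroup.subset_closure (hg x hx)
  | one => simp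
  | mul a b _ _ iha ihb =>
    have e : g * (a * b) * g⁻¹ = (g * a * g⁻¹) * (g * b * g⁻¹) := by group
    rw [e]; exact mul_mem iha ihb
  | inv a _ iha =>
    have e : g * a⁻¹ * g⁻¹ = (g * a * g⁻¹)⁻¹ := by group
    rw [e]; exact inv_mem iha

theorem omega_sub {G : Type*} [Group G] [Finite G] (p : ℕ) [Fact p.Prime] (hp3 : 3 < p) (R : Subgroup G) (hR : IsPGroup p R) (hr : Cfsg.PRankLE p 2 R) : ∃ T : Subgroup G, T ≤ R ∧ (∀ t ∈ T, t ^ p = 1) ∧ (∀ x ∈ R, x ^ p = 1 → x ∈ T) ∧ Nat.card T ≤ p ^ 3 ∧ Subgroup.normalizer (R : Set G) ≤ Subgroup.normalizer (T : Set G) ∧ (Nat.card T ≤ p ^ 2 → Cfsg.IsMetacyclic ↥R) := by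
  obtain ⟨S, hS⟩ : ∃ S : Subgroup ↥R, S = Subgroup.closure {x : ↥R | x ^ p = 1} := ⟨_, rfl⟩
  have hSexp : ∀ s ∈ S, s ^ p = 1 := by
    intro s hs
    rw [hS] at hs
    exact Cfsg.Agent.S0128.result hp3 hR (fun E hE => hr E hE.1 hE.2) s hs
  have hTR : S.map R.subtype ≤ R := by
    rintro _ ⟨x, -, rfl⟩
    exact x.2
  have hTexp : ∀ t ∈ S.map R.subtype, t ^ p = 1 := by
    rintro _ ⟨x, hx, rfl⟩
    rw [← map_pow, hSexp x hx, map_one]
  have hTall : ∀ x ∈ R, x ^ p = 1 → x ∈ S.map R.subtype := by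
    intro x hx hxp
    refine ⟨⟨x, hx⟩, ?_, rfl⟩
    rw [hS]
    exact Subgroup.subset_closure (Subtype.ext (by simpa using hxp))
  have hcard : Nat.card ↥(S.map R.subtype) = Nat.card ↥S :=
    Subgroup.card_map_of_injective R.subtype_injective
  have hSrank : Cfsg.PRankLE p 2 ↥S := by
    intro B hB hBexp
    have hc : Nat.card ↥(B.map S.subtype) = Nat.card ↥B :=
      Subgroup.card_map_of_injective S.subtype_injective
    rw [← hc]
    apply hr (B.map S.subtype)
    · refine ⟨⟨?_⟩⟩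
      rintro ⟨_, ⟨x, hx, rfl⟩⟩ ⟨_, ⟨y, hy, rfl⟩⟩
      apply Subtype.ext
      have h1 := hB.is_comm.comm ⟨x, hx⟩ ⟨y, hy⟩
      have h2 : x * y = y * x := congrArg Subtype.val h1
      change S.subtype x * S.subtype y = S.subtype y * S.subtype x
      rw [← map_mul, ← map_mul, h2]
    · rintro _ ⟨x, hx, rfl⟩
      rw [← map_pow, hBexp x hx, map_one]
  have hS3 : Nat.card ↥S ≤ p ^ 3 :=
    Cfsg.Agent.S3771.result (hR.to_subgroup S) hSrank
      (fun x => Subtype.ext (by simpa using hSexp x x.2))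
  have hT : S.map R.subtype = Subgroup.closure {x : G | x ∈ R ∧ x ^ p = 1} := by
    rw [hS, MonoidHom.map_closure]
    congr 1
    ext x
    constructor
    · rintro ⟨y, hy, rfl⟩
      have hy' : y ^ p = 1 := hy
      refine ⟨y.2, ?_⟩
      have h1 := congrArg Subtype.val hy'
      simpa using h1
    · rintro ⟨hx, hxp⟩
      exact ⟨⟨x, hx⟩, Subtype.ext (by simpa using hxp), rfl⟩
  have hN : Subgroup.normalizer (R : Set G) ≤
      Subgroup.normalizer ((S.map R.subtype : Subgroup G) : Set G) := by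
    have hs : ∀ g ∈ Subgroup.normalizer (R : Set G), ∀ x ∈ {x : G | x ∈ R ∧ x ^ p = 1},
        g * x * g⁻¹ ∈ {x : G | x ∈ R ∧ x ^ p = 1} := by
      rintro g hg x ⟨hx, hxp⟩
      refine ⟨(Subgroup.mem_normalizer_iff.mp hg x).mp hx, ?_⟩
      rw [conj_pow, hxp]; group
    intro g hg
    rw [hT, Subgroup.mem_normalizer_iff]
    intro h
    constructor
    · intro hh
      exact conj_mem_closure _ g (hs g hg) h hh
    · intro hh
      have h1 := conj_mem_closure _ g⁻¹ (hs g⁻¹ (inv_mem hg)) _ hh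
      have e : g⁻¹ * (g * h * g⁻¹) * g⁻¹⁻¹ = h := by group
      rw [e] at h1
      exact h1
  have hmeta : Nat.card ↥(S.map R.subtype) ≤ p ^ 2 → Cfsg.IsMetacyclic ↥R := by
    intro h
    rw [hcard] at h
    apply Cfsg.Agent.S0639.result hp3 hR
    have e : Cfsg.omegaOne p (⊤ : Subgroup ↥R) = S := by
      rw [hS, Cfsg.omegaOne]
      congr 1
      ext x
      simp
    rw [e]; exact h
  exact ⟨S.map R.subtype, hTR, hTexp, hTall, by rw [hcard]; exact hS3, hN, hmeta⟩

end Cfsg.Agent.Lib.helper16.S1454X4
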