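import Mathlib
import Cfsg.Agent.S1447
import Cfsg.Agent.Lib.helper8.S1454T
import Cfsg.Agent.Lib.helper26.S1454F
import Cfsg.Agent.Lib.helper26.S1456M3
import Cfsg.Agent.Lib.helper15.S1454E
import Cfsg.Agent.Lib.helper5.S1454X1c
import Cfsg.Agent.Lib.helper22.S1454X2
import Cfsg.Agent.Lib.helper22.S1454X3
import Cfsg.Agent.Lib.helper16.S1454X4

set_option autoImplicit false

namespace Cfsg.Agent.Lib.helper16.S1454T3b

theorem cent_of_cent_exp {G : Type*} [Group G] [Finite G] (p : ℕ) [Fact p.Prime] (hp : p ≠ 2)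
    (P : Subgroup G) (hP : IsPGroup p P) (a : G) (haP : a ∈ Subgroup.normalizer (P : Set G))
    (hcop : (orderOf a).Coprime p) (h : ∀ x ∈ P, x ^ p = 1 → a * x = x * a) :
    ∀ x ∈ P, a * x = x * a := by
  obtain ⟨D, hDP, hexp, -, -, hcrit, -⟩ :=
    Cfsg.Agent.Lib.helper15.S1454E.exists_critical_plus p hp P hP
  have haD : a ∈ Subgroup.centralizer (D : Set G) := by
    rw [Subgroup.mem_centralizer_iff]
    intro d hd
    exact (h d (hDP hd) (hexp d hd)).symm
  have h2 := hcrit a haP hcop haD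
  rw [Subgroup.mem_centralizer_iff] at h2
  intro x hx
  exact (h2 x hx).symm

theorem mem_normalizer_bot {G : Type*} [Group G] (g : G) :
    g ∈ Subgroup.normalizer (((⊥ : Subgroup G) : Subgroup G) : Set G) := by
  rw [Subgroup.mem_normalizer_iff]
  intro h
  simp [Subgroup.mem_bot]

theorem comm_of_mem_bot {G : Type*} [Group G] {a d : G}
    (h : a * d * a⁻¹ * d⁻¹ ∈ (⊥ : Subgroup G)) : a * d = d * a := by
  have h1 := Subgroup.mem_bot.mp h
  exact mul_inv_eq_iff_eq_mul.mp (mul_inv_eq_one.mp h1)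

theorem conj_mem_centralizer {G : Type*} [Group G] (T : Subgroup G) (a : G)
    (haT : a ∈ Subgroup.normalizer (T : Set G)) (h : G)
    (hh : h ∈ Subgroup.centralizer (T : Set G)) :
    a * h * a⁻¹ ∈ Subgroup.centralizer (T : Set G) := by
  rw [Subgroup.mem_centralizer_iff] at hh ⊢
  intro t ht
  have ht' : a⁻¹ * t * a ∈ T := by
    have h0 := (Subgroup.mem_normalizer_iff.mp haT (a⁻¹ * t * a))
    apply h0.mpr
    have e : a * (a⁻¹ * t * a) * a⁻¹ = t := by group
    rw [e]; exact ht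
  have h2 := hh _ ht'
  calc t * (a * h * a⁻¹) = a * (a⁻¹ * t * a * h) * a⁻¹ := by group
    _ = a * (h * (a⁻¹ * t * a)) * a⁻¹ := by rw [h2]
    _ = a * h * a⁻¹ * t := by group

theorem mem_normalizer_inf_centralizer {G : Type*} [Group G] (K T : Subgroup G) (a : G)
    (haK : a ∈ Subgroup.normalizer (K : Set G)) (haT : a ∈ Subgroup.normalizer (T : Set G)) :
    a ∈ Subgroup.normalizer ((K ⊓ Subgroup.centralizer (T : Set G) : Subgroup G) : Set G) := by
  rw [Subgroup.mem_normalizer_iff]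
  intro h
  constructor
  · intro hh
    have hh' : h ∈ K ⊓ Subgroup.centralizer (T : Set G) := hh
    obtain ⟨h1, h2⟩ := Subgroup.mem_inf.mp hh'
    change a * h * a⁻¹ ∈ K ⊓ Subgroup.centralizer (T : Set G)
    exact Subgroup.mem_inf.mpr
      ⟨(Subgroup.mem_normalizer_iff.mp haK h).mp h1, conj_mem_centralizer T a haT h h2⟩
  · intro hh
    have hh' : a * h * a⁻¹ ∈ K ⊓ Subgroup.centralizer (T : Set G) := hh
    obtain ⟨h1, h2⟩ := Subgroup.mem_inf.mp hh'
    change h ∈ K ⊓ Subgroup.centralizer (T : Set G)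
    refine Subgroup.mem_inf.mpr ⟨(Subgroup.mem_normalizer_iff.mp haK h).mpr h1, ?_⟩
    have h3 := conj_mem_centralizer T a⁻¹ (inv_mem haT) _ h2
    have e : a⁻¹ * (a * h * a⁻¹) * a⁻¹⁻¹ = h := by group
    rwa [e] at h3

theorem part_three_b {G : Type*} [Group G] [Finite G] (p : ℕ) [Fact p.Prime] (hp : p ≠ 2) (R A : Subgroup G) (hR : IsPGroup p R) (hr2 : Cfsg.PRankLE p 2 R) (hA : A ≤ Subgroup.normalizer (R : Set G)) (hAodd : Odd (Nat.card A)) (hfaith : A ⊓ Subgroup.centralizer (R : Set G) = ⊥) (hq : (Nat.card A).Prime) (hq1 : ¬ Nat.card A ∣ p * (p - 1)) (hRA : ⁅R, A⁆ = R) (hnc : ¬ IsMulCommutative R) : Nat.card R = p ^ 3 := by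
  have hpp : p.Prime := Fact.out
  have h3a := Cfsg.Agent.Lib.helper8.S1454T.part_three_a p hp R A hR hr2 hA hAodd hfaith hq hq1
  have hp3 : 3 < p := by
    have h1 := Nat.le_of_dvd (by omega) h3a
    have h2 := hq.two_le
    have h3 : Nat.card A ≠ 2 := by
      intro h; rw [h] at hAodd; exact absurd hAodd (by decide)
    omega
  have hqp : (Nat.card A).Coprime p := by
    rw [Nat.Prime.coprime_iff_not_dvd hq]
    intro h; exact hq1 (h.trans (dvd_mul_right p (p - 1)))
  have hqp1 : (Nat.card A).Coprime (p - 1) := by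
    rw [Nat.Prime.coprime_iff_not_dvd hq]
    intro h; exact hq1 (h.trans (dvd_mul_left (p - 1) p))
  obtain ⟨T, hTR, hTexp, hTall, hT3le, hNT, hTmeta⟩ :=
    Cfsg.Agent.Lib.helper16.S1454X4.omega_sub p hp3 R hR hr2
  by_cases hTsmall : Nat.card T ≤ p ^ 2
  · exfalso
    have hm := hTmeta hTsmall
    have h47 := (Cfsg.Agent.S1447.result p hp R A hR hm hA hqp).1
    rw [hRA] at h47
    exact hnc h47
  have hTp : IsPGroup p T := hR.to_le hTR
  obtain ⟨k, hk⟩ := hTp.exists_card_eq
  have hT3 : Nat.card T = p ^ 3 := by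
    push_neg at hTsmall
    rw [hk] at hTsmall hT3le ⊢
    have h1 : 2 < k := (Nat.pow_lt_pow_iff_right hpp.one_lt).mp hTsmall
    have h2 : k ≤ 3 := (Nat.pow_le_pow_iff_right hpp.one_lt).mp hT3le
    have h3 : k = 3 := by omega
    rw [h3]
  have hTna : ¬ ∀ x ∈ T, ∀ y ∈ T, x * y = y * x := by
    intro hab
    have hc : Nat.card ↥(T.subgroupOf R) = Nat.card ↥T :=
      Nat.card_congr (Subgroup.subgroupOfEquivOfLe hTR).toEquiv
    have h1 := hr2 (T.subgroupOf R)
      ⟨⟨fun x y => Subtype.ext (Subtype.ext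
        (hab _ (Subgroup.mem_subgroupOf.mp x.2) _ (Subgroup.mem_subgroupOf.mp y.2)))⟩⟩
      (fun a ha => Subtype.ext (by simpa using hTexp _ (Subgroup.mem_subgroupOf.mp ha)))
    rw [hc, hT3] at h1
    have h2 : 3 ≤ 2 := (Nat.pow_le_pow_iff_right hpp.one_lt).mp h1
    omega
  have hRT : R ≤ Subgroup.normalizer (T : Set G) := Subgroup.le_normalizer.trans hNT
  have key : ∀ a ∈ A, ∀ r ∈ R, a * r * a⁻¹ * r⁻¹ ∈ T := by
    intro a haA
    have haR : a ∈ Subgroup.normalizer (R : Set G) := hA haA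
    have haT : a ∈ Subgroup.normalizer (T : Set G) := hNT haR
    have hoa : orderOf a ∣ Nat.card A := Subgroup.orderOf_dvd_natCard A haA
    have hcp : (orderOf a).Coprime p := Nat.Coprime.coprime_dvd_left hoa hqp
    have hcp1 : (orderOf a).Coprime (p - 1) := Nat.Coprime.coprime_dvd_left hoa hqp1
    rcases Cfsg.Agent.Lib.helper5.S1454X1c.chain_or_central p R T hR hTR hRT hT3 with
      hcen | ⟨L, M, hML, hLT, hM, hL, hRL, hRM, hcan⟩
    · -- central case
      have hZ := Cfsg.Agent.Lib.helper22.S1454X3.card_center_cube p T hT3 hTna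
      have hprod := Cfsg.Agent.Lib.helper22.S1454X2.eq_mul_centralizer p R T hTR hT3 hTna hcen
      have haZ := mem_normalizer_inf_centralizer T T a haT haT
      have haC := mem_normalizer_inf_centralizer R T a haR haT
      have hZcent : ∀ z ∈ T ⊓ Subgroup.centralizer (T : Set G), a * z = z * a := by
        intro z hz
        have h0 := Cfsg.Agent.Lib.helper26.S1454F.rel_coprime_acts_trivially p
          (T ⊓ Subgroup.centralizer (T : Set G)) ⊥ bot_le (hTp.to_le inf_le_left)
          (fun x _ => mem_normalizer_bot x)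
          (by rw [hZ, Subgroup.card_bot, mul_one]) a haZ (mem_normalizer_bot a) hcp1 z hz
        exact comm_of_mem_bot h0
      have hCcent : ∀ c ∈ R ⊓ Subgroup.centralizer (T : Set G), a * c = c * a :=
        cent_of_cent_exp p hp (R ⊓ Subgroup.centralizer (T : Set G)) (hR.to_le inf_le_left) a haC
          hcp (fun x hx hxp => hZcent x
            (Subgroup.mem_inf.mpr ⟨hTall x (Subgroup.mem_inf.mp hx).1 hxp,
              (Subgroup.mem_inf.mp hx).2⟩))
      intro r hr
      obtain ⟨t, ht, c, hc, rfl⟩ := hprod r hr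
      have hac := hCcent c hc
      have e : a * (t * c) * a⁻¹ * (t * c)⁻¹ = a * t * a⁻¹ * t⁻¹ := by
        calc a * (t * c) * a⁻¹ * (t * c)⁻¹
            = a * t * a⁻¹ * (a * c) * a⁻¹ * c⁻¹ * t⁻¹ := by group
          _ = a * t * a⁻¹ * (c * a) * a⁻¹ * c⁻¹ * t⁻¹ := by rw [hac]
          _ = a * t * a⁻¹ * t⁻¹ := by group
      rw [e]
      exact T.mul_mem ((Subgroup.mem_normalizer_iff.mp haT t).mp ht) (T.inv_mem ht)
    · -- chain case
      obtain ⟨haL, haM⟩ := hcan a haR haT
      have hLp : IsPGroup p L := hTp.to_le hLT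
      have hMp : IsPGroup p M := hLp.to_le hML
      have hMcent : ∀ m ∈ M, a * m = m * a := by
        intro m hm
        have h0 := Cfsg.Agent.Lib.helper26.S1454F.rel_coprime_acts_trivially p M ⊥ bot_le hMp
          (fun x _ => mem_normalizer_bot x)
          (by rw [hM, Subgroup.card_bot, mul_one]) a haM (mem_normalizer_bot a) hcp1 m hm
        exact comm_of_mem_bot h0
      have hLM := Cfsg.Agent.Lib.helper26.S1454F.rel_coprime_acts_trivially p L M hML hLp
        ((hLT.trans hTR).trans hRM) (by rw [hL, hM, pow_two]) a haL haM hcp1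
      have hLcent := Cfsg.Agent.Lib.helper26.S1456M3.stab_trivial p L M hMp a hcp hLM hMcent
      have hTL := Cfsg.Agent.Lib.helper26.S1454F.rel_coprime_acts_trivially p T L hLT hTp
        (hTR.trans hRL) (by rw [hT3, hL, pow_succ, mul_comm]) a haT haL hcp1
      have hTcent := Cfsg.Agent.Lib.helper26.S1456M3.stab_trivial p T L hLp a hcp hTL hLcent
      have hRcent := cent_of_cent_exp p hp R hR a haR hcp
        (fun x hx hxp => hTcent x (hTall x hx hxp))
      intro r hr
      have h := hRcent r hr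
      have e : a * r * a⁻¹ * r⁻¹ = 1 := by rw [h]; group
      rw [e]; exact T.one_mem
  have hle : ⁅R, A⁆ ≤ T := by
    rw [Subgroup.commutator_le]
    intro r hr a ha
    rw [commutatorElement_def]
    have e : r * a * r⁻¹ * a⁻¹ = (a * r * a⁻¹ * r⁻¹)⁻¹ := by group
    rw [e]; exact T.inv_mem (key a ha r hr)
  have hRT' : R = T := le_antisymm (hRA.symm.le.trans hle) hTR
  rw [hRT']; exact hT3

end Cfsg.Agent.Lib.helper16.S1454T3b
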