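import Mathlib

/-!
# Recognising `SL(2,3)` from two generators and relations (library, seat helper16)

`card_closure_le`: a group generated by `i, w` with `j = w i w⁻¹`, `i⁴ = 1`, `j² = i²`,
`j i j⁻¹ = i⁻¹`, `w³ = 1`, `w j w⁻¹ = i j` has at most 24 elements.
`iso_of_rel`: if moreover `i² ≠ 1` the group is isomorphic to `SL(2, ZMod 3)`.
-/

namespace Cfsg.Agent.Lib.helper16.SL23

abbrev S23 := Matrix.SpecialLinearGroup (Fin 2) (ZMod 3)

def Ii : S23 := ⟨!![0, 2; 1, 0], by decide⟩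

def Ww : S23 := ⟨!![1, 1; 0, 1], by decide⟩

set_option maxRecDepth 100000 in
theorem rel1 : Ii ^ 4 = 1 := by decide

set_option maxRecDepth 100000 in
theorem rel2 : (Ww * Ii * Ww⁻¹) ^ 2 = Ii ^ 2 := by decide

set_option maxRecDepth 100000 in
theorem rel3 : (Ww * Ii * Ww⁻¹) * Ii * (Ww * Ii * Ww⁻¹)⁻¹ = Ii⁻¹ := by decide

set_option maxRecDepth 100000 in
theorem rel4 : Ww ^ 3 = 1 := by decide

set_option maxRecDepth 100000 in
theorem rel5 : Ww * (Ww * Ii * Ww⁻¹) * Ww⁻¹ = Ii * (Ww * Ii * Ww⁻¹) := by decide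

set_option maxRecDepth 100000 in
theorem gen23 : ∀ γ : S23, ∃ a : Fin 4, ∃ b : Fin 2, ∃ c : Fin 3,
    γ = Ii ^ a.val * (Ww * Ii * Ww⁻¹) ^ b.val * Ww ^ c.val := by decide

set_option maxRecDepth 100000 in
theorem nrm23 : ∀ x : S23, x ≠ 1 → x = Ii ^ 2 ∨ x ^ 2 = Ii ^ 2 ∨ x ^ 3 = Ii ^ 2 ∨
    ∃ y : S23, (x * y * x⁻¹ * y⁻¹) ^ 2 = Ii ^ 2 := by decide

set_option maxRecDepth 100000 in
theorem card23 : Nat.card S23 = 24 := by
  rw [Nat.card_eq_fintype_card]; decide


section NormalForm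

variable {Y : Type*} [Group Y]

/-- the normal-form set `{i^a w^c} ∪ {i^a j w^c}`, `j = w i w⁻¹` -/
def NF (i w : Y) : Set Y :=
  {y | ∃ a c : ℕ, y = i ^ a * w ^ c ∨ y = i ^ a * (w * i * w⁻¹) * w ^ c}

theorem closure_sub_NF (i w : Y) (r1 : i ^ 4 = 1) (r2 : (w * i * w⁻¹) ^ 2 = i ^ 2)
    (r3 : (w * i * w⁻¹) * i * (w * i * w⁻¹)⁻¹ = i⁻¹) (r4 : w ^ 3 = 1)
    (r5 : w * (w * i * w⁻¹) * w⁻¹ = i * (w * i * w⁻¹)) :
    ∀ x ∈ Subgroup.closure ({i, w} : Set Y), x ∈ NF i w := by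
  obtain ⟨j, hj⟩ : ∃ j : Y, j = w * i * w⁻¹ := ⟨_, rfl⟩
  rw [← hj] at r2 r3 r5
  have hNF : ∀ y : Y, y ∈ NF i w ↔ ∃ a c : ℕ, y = i ^ a * w ^ c ∨ y = i ^ a * j * w ^ c := by
    intro y; rw [hj]; rfl
  -- basic identities
  have hji : j * i = i⁻¹ * j := by
    have : j * i * j⁻¹ * j = i⁻¹ * j := by rw [r3]
    simpa [mul_assoc] using this
  have hjij : j * i * j = i := by
    have e : j * i * j = (j * i * j⁻¹) * j ^ 2 := by group
    rw [e, r3, r2, pow_two, inv_mul_cancel_left]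
  have hwi : w * i = j * w := by rw [hj]; group
  have hwj : w * j = i * j * w := by
    have : w * j * w⁻¹ * w = i * j * w := by rw [r5]
    simpa [mul_assoc] using this
  have hwia : ∀ a : ℕ, w * i ^ a = j ^ a * w := by
    intro a
    induction a with
    | zero => simp
    | succ a ih => rw [pow_succ, ← mul_assoc, ih, mul_assoc, hwi, ← mul_assoc, ← pow_succ]
  have hjpow : ∀ a : ℕ, ∃ a' : ℕ, j ^ a = i ^ a' ∨ j ^ a = i ^ a' * j := by
    intro a
    induction a with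
    | zero => exact ⟨0, Or.inl (by simp)⟩
    | succ a ih =>
      obtain ⟨a', h | h⟩ := ih
      · exact ⟨a', Or.inr (by rw [pow_succ, h])⟩
      · refine ⟨a' + 2, Or.inl ?_⟩
        rw [pow_succ, h, mul_assoc, ← pow_two, r2, ← pow_add]
  -- closure under left multiplication by the generators
  have hmi : ∀ s ∈ NF i w, i * s ∈ NF i w := by
    intro s hs
    rw [hNF] at hs ⊢
    obtain ⟨a, c, rfl | rfl⟩ := hs
    · exact ⟨a + 1, c, Or.inl (by rw [pow_succ', mul_assoc])⟩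
    · exact ⟨a + 1, c, Or.inr (by rw [pow_succ', mul_assoc, mul_assoc, mul_assoc])⟩
  have hmw : ∀ s ∈ NF i w, w * s ∈ NF i w := by
    intro s hs
    rw [hNF] at hs ⊢
    obtain ⟨a, c, rfl | rfl⟩ := hs
    · obtain ⟨a', h | h⟩ := hjpow a
      · refine ⟨a', c + 1, Or.inl ?_⟩
        rw [← mul_assoc, hwia, h, mul_assoc, ← pow_succ']
      · refine ⟨a', c + 1, Or.inr ?_⟩
        rw [← mul_assoc, hwia, h, mul_assoc, ← pow_succ']
    · obtain ⟨a', h | h⟩ := hjpow a
      · refine ⟨a' + 1, c + 1, Or.inr ?_⟩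
        have e : w * (i ^ a * j * w ^ c) = (w * i ^ a) * j * w ^ c := by group
        rw [e, hwia, h, mul_assoc (i ^ a') w j, hwj, pow_succ i a', pow_succ' w c]
        group
      · refine ⟨a' + 1, c + 1, Or.inl ?_⟩
        have e : w * (i ^ a * j * w ^ c) = (w * i ^ a) * j * w ^ c := by group
        have e2 : i ^ a' * j * (i * j * w) * w ^ c = i ^ a' * (j * i * j) * (w * w ^ c) := by
          group
        rw [e, hwia, h, mul_assoc (i ^ a' * j) w j, hwj, e2, hjij, ← pow_succ' w c,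
          ← pow_succ i a']
  have hinvi : i⁻¹ = i ^ 3 := by
    rw [inv_eq_iff_mul_eq_one, ← pow_succ', r1]
  have hinvw : w⁻¹ = w ^ 2 := by
    rw [inv_eq_iff_mul_eq_one, ← pow_succ', r4]
  have key : ∀ x ∈ Subgroup.closure ({i, w} : Set Y), ∀ s ∈ NF i w, x * s ∈ NF i w := by
    intro x hx
    induction hx using Subgroup.closure_induction'' with
    | mem x hx =>
      rcases hx with hx | hx
      · have hx' : x = i := hx
        subst hx'
        exact hmi
      · have hx' : x = w := hx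
        subst hx'
        exact hmw
    | inv_mem x hx =>
      rcases hx with hx | hx
      · have hx' : x = i := hx
        subst hx'
        intro s hs
        rw [hinvi, pow_succ, pow_two, mul_assoc, mul_assoc]
        exact hmi _ (hmi _ (hmi _ hs))
      · have hx' : x = w := hx
        subst hx'
        intro s hs
        rw [hinvw, pow_two, mul_assoc]
        exact hmw _ (hmw _ hs)
    | one => intro s hs; rwa [one_mul]
    | mul x y _ _ hx hy =>
      intro s hs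
      rw [mul_assoc]
      exact hx _ (hy _ hs)
  intro x hx
  have h1 : (1 : Y) ∈ NF i w := ⟨0, 0, Or.inl (by simp)⟩
  have := key x hx 1 h1
  rwa [mul_one] at this

/-- a group generated by `i, w` subject to the relations of `SL(2,3)` is finite of order at most
`24` -/
theorem card_closure_le (i w : Y) (r1 : i ^ 4 = 1) (r2 : (w * i * w⁻¹) ^ 2 = i ^ 2)
    (r3 : (w * i * w⁻¹) * i * (w * i * w⁻¹)⁻¹ = i⁻¹) (r4 : w ^ 3 = 1)
    (r5 : w * (w * i * w⁻¹) * w⁻¹ = i * (w * i * w⁻¹)) :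
    Finite ↥(Subgroup.closure ({i, w} : Set Y)) ∧
      Nat.card ↥(Subgroup.closure ({i, w} : Set Y)) ≤ 24 := by
  obtain ⟨h, hh⟩ : ∃ h : Fin 4 × Bool × Fin 3 → Y, h = fun t =>
      i ^ t.1.val * (if t.2.1 then w * i * w⁻¹ else 1) * w ^ t.2.2.val := ⟨_, rfl⟩
  have hsub : ((Subgroup.closure ({i, w} : Set Y) : Subgroup Y) : Set Y) ⊆ Set.range h := by
    intro x hx
    obtain ⟨a, c, rfl | rfl⟩ := closure_sub_NF i w r1 r2 r3 r4 r5 x hx
    · refine ⟨(⟨a % 4, Nat.mod_lt _ (by norm_num)⟩, false, ⟨c % 3, Nat.mod_lt _ (by norm_num)⟩),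
        ?_⟩
      rw [hh]
      simp only [Bool.false_eq_true, if_false, mul_one]
      rw [← pow_eq_pow_mod a r1, ← pow_eq_pow_mod c r4]
    · refine ⟨(⟨a % 4, Nat.mod_lt _ (by norm_num)⟩, true, ⟨c % 3, Nat.mod_lt _ (by norm_num)⟩),
        ?_⟩
      rw [hh]
      simp only [if_true]
      rw [← pow_eq_pow_mod a r1, ← pow_eq_pow_mod c r4]
  have hfin : (Set.range h).Finite := Set.finite_range h
  have hfin' : Finite ↥((Subgroup.closure ({i, w} : Set Y) : Subgroup Y) : Set Y) :=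
    (hfin.subset hsub).to_subtype
  refine ⟨hfin', ?_⟩
  have h1 : Nat.card ↥((Subgroup.closure ({i, w} : Set Y) : Subgroup Y) : Set Y)
      ≤ Nat.card ↥(Set.range h) := Nat.card_mono hfin hsub
  have h2 : Nat.card ↥(Set.range h) ≤ Nat.card (Fin 4 × Bool × Fin 3) :=
    Nat.card_le_card_of_surjective (Set.rangeFactorization h) Set.rangeFactorization_surjective
  have h3 : Nat.card (Fin 4 × Bool × Fin 3) = 24 := by
    rw [Nat.card_eq_fintype_card]; rfl
  exact h1.trans (h2.trans h3.le)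

end NormalForm

/-- a group generated by `i, w` subject to the relations of `SL(2,3)`, with `i² ≠ 1`, is
isomorphic to `SL(2,3)` -/
theorem iso_of_rel {X : Type*} [Group X] (i w : X) (r1 : i ^ 4 = 1)
    (r2 : (w * i * w⁻¹) ^ 2 = i ^ 2)
    (r3 : (w * i * w⁻¹) * i * (w * i * w⁻¹)⁻¹ = i⁻¹) (r4 : w ^ 3 = 1)
    (r5 : w * (w * i * w⁻¹) * w⁻¹ = i * (w * i * w⁻¹))
    (hgen : Subgroup.closure ({i, w} : Set X) = ⊤) (hne : i ^ 2 ≠ 1) :
    Nonempty (X ≃* S23) := by
  obtain ⟨D, hD⟩ : ∃ D : Subgroup (X × S23),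
      D = Subgroup.closure ({(i, Ii), (w, Ww)} : Set (X × S23)) := ⟨_, rfl⟩
  have hfc := card_closure_le ((i, Ii) : X × S23) (w, Ww)
    (Prod.ext (by simpa using r1) (by simpa using rel1))
    (Prod.ext (by simpa using r2) (by simpa using rel2))
    (Prod.ext (by simpa using r3) (by simpa using rel3))
    (Prod.ext (by simpa using r4) (by simpa using rel4))
    (Prod.ext (by simpa using r5) (by simpa using rel5))
  rw [← hD] at hfc
  obtain ⟨hfin, hcard⟩ := hfc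
  have hiD : ((i, Ii) : X × S23) ∈ D := by rw [hD]; exact Subgroup.subset_closure (by simp)
  have hwD : ((w, Ww) : X × S23) ∈ D := by rw [hD]; exact Subgroup.subset_closure (by simp)
  -- both projections are onto
  have hfst : ∀ x : X, ∃ d ∈ D, d.1 = x := by
    intro x
    have h1 : D.map (MonoidHom.fst X S23) = ⊤ := by
      rw [hD, MonoidHom.map_closure, Set.image_pair]
      exact hgen
    have h2 : x ∈ D.map (MonoidHom.fst X S23) := by rw [h1]; trivial
    obtain ⟨d, hd, rfl⟩ := h2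
    exact ⟨d, hd, rfl⟩
  have hsnd : ∀ γ : S23, ∃ d ∈ D, d.2 = γ := by
    intro γ
    obtain ⟨a, b, c, rfl⟩ := gen23 γ
    refine ⟨(i, Ii) ^ a.val * ((w, Ww) * (i, Ii) * (w, Ww)⁻¹) ^ b.val * (w, Ww) ^ c.val,
      ?_, by simp⟩
    exact D.mul_mem (D.mul_mem (D.pow_mem hiD _)
      (D.pow_mem (D.mul_mem (D.mul_mem hwD hiD) (D.inv_mem hwD)) _)) (D.pow_mem hwD _)
  obtain ⟨φ₁, hφ₁⟩ : ∃ φ₁ : ↥D →* X, φ₁ = (MonoidHom.fst X S23).comp D.subtype := ⟨_, rfl⟩
  obtain ⟨φ₂, hφ₂⟩ : ∃ φ₂ : ↥D →* S23, φ₂ = (MonoidHom.snd X S23).comp D.subtype := ⟨_, rfl⟩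
  have hs₂ : Function.Surjective φ₂ := by
    intro γ
    obtain ⟨d, hd, rfl⟩ := hsnd γ
    exact ⟨⟨d, hd⟩, by rw [hφ₂]; rfl⟩
  have hb₂ : Function.Bijective φ₂ :=
    hs₂.bijective_of_nat_card_le (hcard.trans card23.ge)
  have hs₁ : Function.Surjective φ₁ := by
    intro x
    obtain ⟨d, hd, rfl⟩ := hfst x
    exact ⟨⟨d, hd⟩, by rw [hφ₁]; rfl⟩
  have hi₁ : Function.Injective φ₁ := by
    rw [injective_iff_map_eq_one]
    intro d hd1
    by_contra hdne
    have hd1' : (d : X × S23).1 = 1 := by rw [hφ₁] at hd1; exact hd1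
    have hx : (d : X × S23).2 ≠ 1 := by
      intro h2
      apply hdne
      apply Subtype.ext
      exact Prod.ext hd1' h2
    -- `(1, Ii²) ∈ D`
    have hz : ((1, Ii ^ 2) : X × S23) ∈ D := by
      rcases nrm23 _ hx with h | h | h | ⟨y, h⟩
      · have : ((1, Ii ^ 2) : X × S23) = (d : X × S23) := Prod.ext hd1'.symm h.symm
        rw [this]; exact d.2
      · have : ((1, Ii ^ 2) : X × S23) = (d : X × S23) ^ 2 :=
          Prod.ext (by simp [hd1']) (by simpa using h.symm)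
        rw [this]; exact D.pow_mem d.2 _
      · have : ((1, Ii ^ 2) : X × S23) = (d : X × S23) ^ 3 :=
          Prod.ext (by simp [hd1']) (by simpa using h.symm)
        rw [this]; exact D.pow_mem d.2 _
      · obtain ⟨dy, hdy, rfl⟩ := hsnd y
        have : ((1, Ii ^ 2) : X × S23) = ((d : X × S23) * dy * (d : X × S23)⁻¹ * dy⁻¹) ^ 2 :=
          Prod.ext (by simp [hd1']) (by simpa using h.symm)
        rw [this]
        exact D.pow_mem (D.mul_mem (D.mul_mem (D.mul_mem d.2 hdy) (D.inv_mem d.2))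
          (D.inv_mem hdy)) _
    have hi2 : ((i ^ 2, 1) : X × S23) ∈ D := by
      have : ((i ^ 2, 1) : X × S23) = (i, Ii) ^ 2 * ((1, Ii ^ 2) : X × S23)⁻¹ :=
        Prod.ext (by simp) (by simp)
      rw [this]
      exact D.mul_mem (D.pow_mem hiD _) (D.inv_mem hz)
    have h3 : φ₂ ⟨_, hi2⟩ = φ₂ 1 := by rw [hφ₂, map_one]; rfl
    have h4 := hb₂.1 h3
    have h5 : ((i ^ 2, 1) : X × S23) = 1 := congrArg Subtype.val h4
    exact hne (congrArg Prod.fst h5)
  exact ⟨(MulEquiv.ofBijective φ₁ ⟨hi₁, hs₁⟩).symm.trans (MulEquiv.ofBijective φ₂ hb₂)⟩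

end Cfsg.Agent.Lib.helper16.SL23
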