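import Mathlib
import Cfsg.Agent.Lib.helper16.ZStar
import Cfsg.Agent.Lib.helper14.SylIn
import Cfsg.Agent.Lib.helper8.CoprimeAction

set_option autoImplicit false

/-!
# Consequences of the Z*-theorem for isolated subgroups of a Sylow 2-subgroup

`iso_central`: if `Q ≤ S` (`S` a Sylow 2-subgroup) and every element of `Q` is conjugate in `G`
to no other element of `S`, then `Q` is central modulo `O(G)`.
-/

namespace Cfsg.Agent.Lib.helper16.ZStar

open Cfsg Cfsg.Agent.Lib.helper2.BS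

universe u

variable {G : Type u} [Group G]

/-- a `p`-subgroup of `S N` (`S` Sylow, `N` normal) is conjugate into `S` by an element of `N` -/
theorem conj_into [Finite G] {p : ℕ} [Fact p.Prime] (S : Sylow p G) (N : Subgroup G) [N.Normal]
    (T : Subgroup G) (hT : IsPGroup p T) (hTle : T ≤ (S : Subgroup G) ⊔ N) :
    ∃ a ∈ N, ∀ x ∈ T, a * x * a⁻¹ ∈ (S : Subgroup G) := by
  have h := Cfsg.Agent.Lib.helper14.sylIn_of_sylow S ((S : Subgroup G) ⊔ N) le_sup_left
  obtain ⟨k, hk, hle⟩ := h.exists_conj_le T hTle hT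
  have hk' : k ∈ ((N ⊔ (S : Subgroup G) : Subgroup G) : Set G) := by rw [sup_comm]; exact hk
  rw [Subgroup.normal_mul] at hk'
  obtain ⟨a, ha, s, hs, rfl⟩ := Set.mem_mul.mp hk'
  refine ⟨a⁻¹, N.inv_mem ha, fun x hx => ?_⟩
  have h1 := hle hx
  rw [Cfsg.Agent.Lib.helper14.mem_map_conj] at h1
  have h2 := (S : Subgroup G).mul_mem ((S : Subgroup G).mul_mem hs h1)
    ((S : Subgroup G).inv_mem hs)
  have e : s * ((a * s)⁻¹ * x * (a * s)) * s⁻¹ = a⁻¹ * x * a⁻¹⁻¹ := by group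
  rw [e] at h2; exact h2

/-- element form of `conj_into` -/
theorem conj_into_elt [Finite G] {p : ℕ} [Fact p.Prime] (S : Sylow p G) (N : Subgroup G)
    [N.Normal] (q g : G) (hq : q ∈ (S : Subgroup G))
    (h : g * q * g⁻¹ ∈ (S : Subgroup G) ⊔ N) :
    ∃ a ∈ N, a * (g * q * g⁻¹) * a⁻¹ ∈ (S : Subgroup G) := by
  have hle : Subgroup.zpowers q ≤ (S : Subgroup G) := by rw [Subgroup.zpowers_le]; exact hq
  have hT : IsPGroup p ((Subgroup.zpowers q).map (MulAut.conj g).toMonoidHom) :=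
    (S.isPGroup'.to_le hle).map _
  have hTle : (Subgroup.zpowers q).map (MulAut.conj g).toMonoidHom ≤ (S : Subgroup G) ⊔ N := by
    rw [Subgroup.map_le_iff_le_comap, Subgroup.zpowers_le]
    exact h
  obtain ⟨a, ha, hax⟩ := conj_into S N _ hT hTle
  exact ⟨a, ha, hax _ ⟨q, Subgroup.mem_zpowers q, rfl⟩⟩

/-- a Sylow 2-subgroup meets `O(G)` trivially -/
theorem sylow_inf_core [Finite G] (S : Sylow 2 G) {x : G} (hS : x ∈ (S : Subgroup G))
    (hO : x ∈ Cfsg.pPrimeCore 2 G) : x = 1 := by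
  have : Fact (Nat.Prime 2) := ⟨Nat.prime_two⟩
  obtain ⟨k, hk⟩ := IsPGroup.iff_card.mp S.isPGroup'
  have hOc : (Nat.card (Cfsg.pPrimeCore 2 G)).Coprime 2 :=
    Cfsg.Agent.Lib.helper9.pPrimeCore_coprime 2 G
  have hcop : (Nat.card (S : Subgroup G)).Coprime (Nat.card (Cfsg.pPrimeCore 2 G)) := by
    rw [hk]; exact Nat.Coprime.pow_left k hOc.symm
  exact Cfsg.Agent.Lib.helper8.eq_one_of_coprime hcop hS hO

/-- if `O(G) = 1` and `Z` is a normal subgroup of order 2 then `O(G/Z) = 1` -/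
theorem core_quot_two [Finite G] (hO : Cfsg.pPrimeCore 2 G = ⊥) (Z : Subgroup G) [Z.Normal]
    (hZcard : Nat.card Z = 2) : Cfsg.pPrimeCore 2 (G ⧸ Z) = ⊥ := by
  classical
  have : Fact (Nat.Prime 2) := ⟨Nat.prime_two⟩
  obtain ⟨Nb, hNb⟩ : ∃ Nb, Nb = Cfsg.pPrimeCore 2 (G ⧸ Z) := ⟨_, rfl⟩
  rw [← hNb]
  haveI hNbn : Nb.Normal := by rw [hNb]; exact Cfsg.Agent.Lib.helper9.ppc_normal 2 (G ⧸ Z)
  obtain ⟨N₁, hN₁⟩ : ∃ N₁, N₁ = Nb.comap (QuotientGroup.mk' Z) := ⟨_, rfl⟩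
  haveI hN₁n : N₁.Normal := by rw [hN₁]; exact hNbn.comap _
  have hN₁card : Nat.card N₁ = 2 * Nat.card Nb := by
    have := QuotientGroup.card_preimage_mk Z (Nb : Set (G ⧸ Z))
    rw [hZcard] at this
    rw [hN₁]
    exact this
  have hNbodd : Odd (Nat.card Nb) := by
    rw [hNb]
    exact Nat.coprime_two_right.mp (Cfsg.Agent.Lib.helper9.pPrimeCore_coprime 2 (G ⧸ Z))
  have hON₁ : Cfsg.pPrimeCore 2 N₁ = ⊥ := by
    have h1 := core_sub_le N₁
    rw [hO, le_bot_iff] at h1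
    exact (Subgroup.map_eq_bot_iff_of_injective _ N₁.subtype_injective).mp h1
  have hNK₁ : NK N₁ := by
    intro E hE
    have h4 : Nat.card E = 4 := hE.card_four
    have hdvd : Nat.card E ∣ Nat.card N₁ := Subgroup.card_subgroup_dvd_card E
    rw [h4, hN₁card] at hdvd
    obtain ⟨m, hm⟩ := hNbodd
    omega
  have R : Sylow 2 N₁ := default
  have hRc : IsCyclic R := by
    obtain ⟨k, hk⟩ := IsPGroup.iff_card.mp R.isPGroup'
    have hdvd : Nat.card R ∣ Nat.card N₁ := Subgroup.card_subgroup_dvd_card _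
    rw [hk, hN₁card] at hdvd
    have hk1 : k ≤ 1 := by
      by_contra hk2
      push Not at hk2
      have h4 : 2 ^ 2 ∣ 2 ^ k := pow_dvd_pow 2 hk2
      have h5 := h4.trans hdvd
      obtain ⟨m, hm⟩ := hNbodd
      omega
    interval_cases k
    · have : Subsingleton R := (Nat.card_eq_one_iff_unique.mp (by rw [hk]; norm_num)).1
      exact isCyclic_of_subsingleton
    · exact isCyclic_of_prime_card (p := 2) (by rw [hk]; norm_num)
  obtain ⟨β, hβ⟩ := beta_of_cyclic hNK₁ R hRc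
  have hker : β.ker ≤ Cfsg.pPrimeCore 2 N₁ := by
    apply Cfsg.Agent.Lib.helper9.le_pPrimeCore (MonoidHom.normal_ker β)
    rw [Nat.coprime_two_right]
    by_contra hnodd
    rw [Nat.not_odd_iff_even] at hnodd
    obtain ⟨y, hy⟩ := exists_prime_orderOf_dvd_card' 2 hnodd.two_dvd
    have h1 : β (y : N₁) = 1 := y.2
    rw [hβ, Subgroup.orderOf_coe, hy] at h1
    exact absurd h1 (by decide)
  have hodd1 : ∀ x : N₁, Odd (orderOf x) → x = 1 := by
    intro x hx
    have h1 : x ∈ β.ker := by rw [MonoidHom.mem_ker, hβ]; exact hx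
    have := hker h1
    rw [hON₁, Subgroup.mem_bot] at this
    exact this
  by_contra hne
  have h1 : 1 < Nat.card Nb := (Subgroup.one_lt_card_iff_ne_bot _).mpr hne
  obtain ⟨p, hp, hpd⟩ := Nat.exists_prime_and_dvd (show Nat.card Nb ≠ 1 by omega)
  haveI : Fact p.Prime := ⟨hp⟩
  have hpd1 : p ∣ Nat.card N₁ := by rw [hN₁card]; exact hpd.mul_left 2
  obtain ⟨x, hx⟩ := exists_prime_orderOf_dvd_card' p hpd1
  have hpodd : Odd p := Odd.of_dvd_nat hNbodd hpd
  have := hodd1 x (by rw [hx]; exact hpodd)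
  rw [this, orderOf_one] at hx
  exact hp.one_lt.ne hx

/-- inductive form of `iso_central` -/
theorem iso_aux : ∀ (n : ℕ) (G : Type u) [Group G] [Finite G], Nat.card G = n →
    ∀ (S : Sylow 2 G) (Q : Subgroup G), Q ≤ (S : Subgroup G) →
    (∀ q ∈ Q, ∀ g : G, g * q * g⁻¹ ∈ (S : Subgroup G) → g * q * g⁻¹ = q) →
    ∀ q ∈ Q, ∀ g : G, q * g * q⁻¹ * g⁻¹ ∈ Cfsg.pPrimeCore 2 G := by
  intro n
  induction n using Nat.strong_induction_on with
  | _ n ih =>
  intro G _ _ hn S Q hQS hiso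
  classical
  have : Fact (Nat.Prime 2) := ⟨Nat.prime_two⟩
  haveI hOn : (Cfsg.pPrimeCore 2 G).Normal := Cfsg.Agent.Lib.helper9.ppc_normal 2 G
  have hOc : (Nat.card (Cfsg.pPrimeCore 2 G)).Coprime 2 :=
    Cfsg.Agent.Lib.helper9.pPrimeCore_coprime 2 G
  by_cases hO : Cfsg.pPrimeCore 2 G = ⊥
  swap
  · intro q hq g
    have hlt : Nat.card (G ⧸ Cfsg.pPrimeCore 2 G) < n := by
      rw [← hn, ← Subgroup.index_eq_card, ← Subgroup.index_mul_card (Cfsg.pPrimeCore 2 G)]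
      have h1 : 1 < Nat.card (Cfsg.pPrimeCore 2 G) :=
        (Subgroup.one_lt_card_iff_ne_bot _).mpr hO
      have h2 : 0 < (Cfsg.pPrimeCore 2 G).index :=
        Nat.pos_of_ne_zero Subgroup.index_ne_zero_of_finite
      nlinarith
    obtain ⟨S', hS'⟩ : ∃ S' : Sylow 2 (G ⧸ Cfsg.pPrimeCore 2 G), (S' : Subgroup _) =
        (S : Subgroup G).map (QuotientGroup.mk' (Cfsg.pPrimeCore 2 G)) :=
      ⟨S.mapSurjective (QuotientGroup.mk'_surjective _), Sylow.coe_mapSurjective _ _⟩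
    have hQ' : Q.map (QuotientGroup.mk' (Cfsg.pPrimeCore 2 G)) ≤ (S' : Subgroup _) := by
      rw [hS']; exact Subgroup.map_mono hQS
    have hiso' : ∀ q' ∈ Q.map (QuotientGroup.mk' (Cfsg.pPrimeCore 2 G)),
        ∀ g', g' * q' * g'⁻¹ ∈ (S' : Subgroup _) → g' * q' * g'⁻¹ = q' := by
      rintro _ ⟨q, hq, rfl⟩ g' hg'
      obtain ⟨g, rfl⟩ := QuotientGroup.mk_surjective g'
      rw [hS'] at hg'
      have h1 : g * q * g⁻¹ ∈ (S : Subgroup G) ⊔ Cfsg.pPrimeCore 2 G := by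
        have : g * q * g⁻¹ ∈ ((S : Subgroup G).map (QuotientGroup.mk' _)).comap
            (QuotientGroup.mk' (Cfsg.pPrimeCore 2 G)) := hg'
        rw [Subgroup.comap_map_eq, QuotientGroup.ker_mk'] at this
        exact this
      obtain ⟨a, ha, h2⟩ := conj_into_elt S (Cfsg.pPrimeCore 2 G) q g (hQS hq) h1
      have h3 : (a * g) * q * (a * g)⁻¹ = q := hiso q hq (a * g) (by
        have e : a * g * q * (a * g)⁻¹ = a * (g * q * g⁻¹) * a⁻¹ := by group
        rw [e]; exact h2)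
      have h4 : g * q * g⁻¹ = a⁻¹ * q * a := by
        calc g * q * g⁻¹ = a⁻¹ * (a * g * q * (a * g)⁻¹) * a := by group
          _ = a⁻¹ * q * a := by rw [h3]
      show (QuotientGroup.mk' (Cfsg.pPrimeCore 2 G) g) * (QuotientGroup.mk' _ q) *
        (QuotientGroup.mk' _ g)⁻¹ = QuotientGroup.mk' _ q
      rw [← map_inv, ← map_mul, ← map_mul, h4]
      show (QuotientGroup.mk (a⁻¹ * q * a) : G ⧸ Cfsg.pPrimeCore 2 G) = QuotientGroup.mk q
      rw [QuotientGroup.eq]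
      have e : (a⁻¹ * q * a)⁻¹ * q = a⁻¹ * (q⁻¹ * a * q⁻¹⁻¹) := by group
      rw [e]
      exact (Cfsg.pPrimeCore 2 G).mul_mem ((Cfsg.pPrimeCore 2 G).inv_mem ha)
        (hOn.conj_mem a ha q⁻¹)
    have h5 := ih _ hlt (G ⧸ Cfsg.pPrimeCore 2 G) rfl S' _ hQ' hiso'
      (QuotientGroup.mk' _ q) (Subgroup.mem_map_of_mem _ hq) (QuotientGroup.mk' _ g)
    rw [Cfsg.Agent.Lib.helper9.pPrimeCore_quotient_eq_bot 2 G, Subgroup.mem_bot] at h5
    exact (QuotientGroup.eq_one_iff _).mp h5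
  · rw [hO]
    intro q hq g
    rw [Subgroup.mem_bot]
    by_cases hQ1 : Q = ⊥
    · rw [hQ1, Subgroup.mem_bot] at hq; rw [hq]; group
    have hQp : IsPGroup 2 Q := S.isPGroup'.to_le hQS
    have h2Q : 2 ∣ Nat.card Q := by
      obtain ⟨k, hk⟩ := IsPGroup.iff_card.mp hQp
      have h1 : 1 < Nat.card Q := (Subgroup.one_lt_card_iff_ne_bot _).mpr hQ1
      rw [hk] at h1 ⊢
      have : k ≠ 0 := by rintro rfl; simp at h1
      exact dvd_pow_self 2 this
    obtain ⟨⟨t, htQ⟩, ht'⟩ := exists_prime_orderOf_dvd_card' 2 h2Q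
    rw [Subgroup.orderOf_mk] at ht'
    have htc : ∀ g : G, t * g * t⁻¹ * g⁻¹ = 1 := by
      intro g
      have := zstar_sylow S t ht' (hQS htQ) (hiso t htQ) g
      rw [hO, Subgroup.mem_bot] at this
      exact this
    have hscomm : ∀ g : G, t * g = g * t := by
      intro g
      have := htc g
      calc t * g = (t * g * t⁻¹ * g⁻¹) * (g * t) := by group
        _ = g * t := by rw [this, one_mul]
    obtain ⟨Z, hZ⟩ : ∃ Z, Z = Subgroup.zpowers t := ⟨_, rfl⟩
    haveI hZn : Z.Normal := by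
      constructor
      intro x hx g
      rw [hZ] at hx ⊢
      obtain ⟨k, rfl⟩ := Subgroup.mem_zpowers_iff.mp hx
      have hc : Commute g (t ^ k) := Commute.zpow_right (hscomm g).symm k
      have : g * t ^ k * g⁻¹ = t ^ k := by rw [hc.eq]; group
      rw [this]; exact hx
    have hZcard : Nat.card Z = 2 := by rw [hZ, Nat.card_zpowers, ht']
    have hZS : Z ≤ (S : Subgroup G) := by rw [hZ, Subgroup.zpowers_le]; exact hQS htQ
    have hlt : Nat.card (G ⧸ Z) < n := by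
      rw [← hn, ← Subgroup.index_eq_card, ← Subgroup.index_mul_card Z, hZcard]
      have h2 : 0 < Z.index := Nat.pos_of_ne_zero Subgroup.index_ne_zero_of_finite
      omega
    obtain ⟨S', hS'⟩ : ∃ S' : Sylow 2 (G ⧸ Z), (S' : Subgroup _) =
        (S : Subgroup G).map (QuotientGroup.mk' Z) :=
      ⟨S.mapSurjective (QuotientGroup.mk'_surjective _), Sylow.coe_mapSurjective _ _⟩
    have hQ' : Q.map (QuotientGroup.mk' Z) ≤ (S' : Subgroup _) := by
      rw [hS']; exact Subgroup.map_mono hQS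
    have hcomap : ∀ x : G, (QuotientGroup.mk' Z) x ∈ (S' : Subgroup _) →
        x ∈ (S : Subgroup G) := by
      intro x hx
      rw [hS'] at hx
      have : x ∈ ((S : Subgroup G).map (QuotientGroup.mk' Z)).comap (QuotientGroup.mk' Z) := hx
      rw [Subgroup.comap_map_eq, QuotientGroup.ker_mk', sup_eq_left.mpr hZS] at this
      exact this
    have hiso' : ∀ q' ∈ Q.map (QuotientGroup.mk' Z), ∀ g',
        g' * q' * g'⁻¹ ∈ (S' : Subgroup _) → g' * q' * g'⁻¹ = q' := by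
      rintro _ ⟨q, hq, rfl⟩ g' hg'
      obtain ⟨g, rfl⟩ := QuotientGroup.mk_surjective g'
      have h1 : g * q * g⁻¹ ∈ (S : Subgroup G) := hcomap _ hg'
      have h2 := hiso q hq g h1
      show (QuotientGroup.mk' Z g) * (QuotientGroup.mk' Z q) * (QuotientGroup.mk' Z g)⁻¹ = _
      rw [← map_inv, ← map_mul, ← map_mul, h2]
    have h5 := ih _ hlt (G ⧸ Z) rfl S' (Q.map (QuotientGroup.mk' Z)) hQ' hiso'
      (QuotientGroup.mk' Z q) (Subgroup.mem_map_of_mem _ hq) (QuotientGroup.mk' Z g)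
    rw [core_quot_two hO Z hZcard, Subgroup.mem_bot] at h5
    have h6 : q * g * q⁻¹ * g⁻¹ ∈ Z := by
      rw [← QuotientGroup.eq_one_iff]
      exact h5
    have h7 : g * q⁻¹ * g⁻¹ ∈ (S : Subgroup G) := by
      have e : g * q⁻¹ * g⁻¹ = q⁻¹ * (q * g * q⁻¹ * g⁻¹) := by group
      rw [e]
      exact (S : Subgroup G).mul_mem ((S : Subgroup G).inv_mem (hQS hq)) (hZS h6)
    have h8 := hiso q⁻¹ (Q.inv_mem hq) g h7
    calc q * g * q⁻¹ * g⁻¹ = q * (g * q⁻¹ * g⁻¹) := by group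
      _ = 1 := by rw [h8, mul_inv_cancel]

/-- a subgroup `Q` of a Sylow 2-subgroup `S` all of whose elements are conjugate in `G` to no
other element of `S` is central modulo `O(G)` -/
theorem iso_central [Finite G] (S : Sylow 2 G) (Q : Subgroup G) (hQS : Q ≤ (S : Subgroup G))
    (hiso : ∀ q ∈ Q, ∀ g : G, g * q * g⁻¹ ∈ (S : Subgroup G) → g * q * g⁻¹ = q)
    (q : G) (hq : q ∈ Q) (g : G) : q * g * q⁻¹ * g⁻¹ ∈ Cfsg.pPrimeCore 2 G :=
  iso_aux (Nat.card G) G rfl S Q hQS hiso q hq g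

/-- commutators with an element central modulo a normal subgroup lie in it -/
theorem comm_mem_of_central (N : Subgroup G) [N.Normal] {q : G}
    (hq : QuotientGroup.mk' N q ∈ Subgroup.center (G ⧸ N)) (h : G) :
    h * q * h⁻¹ * q⁻¹ ∈ N := by
  rw [← QuotientGroup.eq_one_iff]
  have := Subgroup.mem_center_iff.mp hq (QuotientGroup.mk' N h)
  show QuotientGroup.mk' N (h * q * h⁻¹ * q⁻¹) = 1
  rw [map_mul, map_mul, map_mul, map_inv, map_inv, this]
  group

end Cfsg.Agent.Lib.helper16.ZStar
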